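import Mathlib
import Groth.Agent.Lib.Helper24.NFT.OpenComp
import Groth.Agent.Lib.Helper24.NFT.Conn
import Groth.Agent.Lib.Helper24.HomogSep.Transl

/-!
# Helper24 — an action fixing the unit section preserves the unit component
-/

set_option autoImplicit false
universe u

open CategoryTheory MonoidalCategory CartesianMonoidalCategory MonObj GrpObj AlgebraicGeometry Limits

namespace Groth.Agent.Lib.Helper24.NeutComp

open Groth.Agent.Lib.Helper24.NFT Groth.Agent.Lib.Helper4.ActShear Groth.Agent.Lib.Helper4.ActShear2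
open Groth.Agent.Lib.Helper24.HomogSep

section general

variable {S S' : Scheme.{u}} (f : S' ⟶ S) {G H : Over S} [GrpObj G] [GrpObj H]
  (a : AlgGrp.Action G H)

/-- the unit section of a base change, precomposed with the structure map -/
theorem toUnit_unit_bc : toUnit (Red.bc f G) ≫ η[Red.bc f H] =
    (Over.pullback f).map (toUnit G ≫ η[H]) := by
  rw [Functor.obj.η_def, ← Category.assoc, Functor.Monoidal.toUnit_ε, ← Functor.map_comp]

/-- fixing the unit section is stable under base change -/
theorem fix_bc (hfix : lift (𝟙 G) (toUnit G ≫ η[H]) ≫ a.act = toUnit G ≫ η[H]) :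
    lift (𝟙 (Red.bc f G)) (toUnit (Red.bc f G) ≫ η[Red.bc f H]) ≫ (a.bc f).act =
      toUnit (Red.bc f G) ≫ η[Red.bc f H] := by
  rw [toUnit_unit_bc, AlgGrp.Action.bc_act, ← (Over.pullback f).map_id,
    Functor.Monoidal.lift_μ_assoc, ← Functor.map_comp, hfix]

/-- a `T`-point acts trivially on the unit -/
theorem smul_unit_of_fix (hfix : lift (𝟙 G) (toUnit G ≫ η[H]) ≫ a.act = toUnit G ≫ η[H])
    {T : Over S} (g : T ⟶ G) : lift g (toUnit T ≫ η[H]) ≫ a.act = toUnit T ≫ η[H] := by
  have h1 : lift g (toUnit T ≫ η[H]) = g ≫ lift (𝟙 G) (toUnit G ≫ η[H]) := by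
    rw [comp_lift, Category.comp_id, ← Category.assoc, toUnit_unique (g ≫ toUnit G) (toUnit T)]
  rw [h1, Category.assoc, hfix, ← Category.assoc, toUnit_unique (g ≫ toUnit G) (toUnit T)]

end general

variable {k : Type u} [Field k] {G H : Over (Spec (CommRingCat.of k))} [GrpObj G] [GrpObj H]
  (a : AlgGrp.Action G H)

/-- an action fixing the unit section of `H` preserves the unit component of `H` -/
theorem act_mem_unitComponent
    (hfix : lift (𝟙 G) (toUnit G ≫ η[H]) ≫ a.act = toUnit G ≫ η[H])
    (pt : ↥(𝟙_ (Over (Spec (CommRingCat.of k)))).left) (w : (G ⊗ H).left)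
    (hw : (snd G H).left.base w ∈ irreducibleComponent (η[H].left.base pt)) :
    a.act.left.base w ∈ irreducibleComponent (η[H].left.base pt) := by
  obtain ⟨L, _, _, _, wt, ptL, hwt⟩ := exists_ratPt (G ⊗ H) w
  let g := Spec.map (CommRingCat.ofHom (algebraMap k L))
  let F := Over.pullback g
  let gt : 𝟙_ (Over (Spec (CommRingCat.of L))) ⟶ Red.bc g G := wt ≫ F.map (fst G H)
  let nt : 𝟙_ (Over (Spec (CommRingCat.of L))) ⟶ Red.bc g H := wt ≫ F.map (snd G H)
  let vt : 𝟙_ (Over (Spec (CommRingCat.of L))) ⟶ Red.bc g H := wt ≫ F.map a.act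
  have hv : lift gt nt ≫ (a.bc g).act = vt := by
    change lift (wt ≫ F.map (fst G H)) (wt ≫ F.map (snd G H)) ≫ (a.bc g).act = _
    rw [AlgGrp.Action.bc_act, ← comp_lift_assoc, Functor.Monoidal.lift_μ_assoc,
      ← Functor.map_comp, lift_fst_snd, Category.id_comp]
  have hpn : (pullback.fst H.hom g).base (nt.left.base ptL) = (snd G H).left.base w := by
    change (pullback.fst H.hom g).base ((wt ≫ F.map (snd G H)).left.base ptL) = _
    rw [Over.comp_left, Scheme.Hom.comp_apply, ← Scheme.Hom.comp_apply _ (pullback.fst H.hom g),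
      ActBC.pullback_map_left_fst, Scheme.Hom.comp_apply, hwt]
  have hpv : (pullback.fst H.hom g).base (vt.left.base ptL) = a.act.left.base w := by
    change (pullback.fst H.hom g).base ((wt ≫ F.map a.act).left.base ptL) = _
    rw [Over.comp_left, Scheme.Hom.comp_apply, ← Scheme.Hom.comp_apply _ (pullback.fst H.hom g),
      ActBC.pullback_map_left_fst, Scheme.Hom.comp_apply, hwt]
  -- `nt` lies in the unit component upstairs
  let e' : ↥(Red.bc g H).left := η[Red.bc g H].left.base ptL
  have hirr := isIrreducible_preimage_component (selfAct H) (surjective_selfAct H) η[H] pt L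
  have hnE : nt.left.base ptL ∈ irreducibleComponent e' := by
    apply (uic_grp e').subset_irreducibleComponent hirr
    · change (pullback.fst H.hom g).base e' ∈ irreducibleComponent (η[H].left.base pt)
      rw [bc_unit_apply pt L ptL]; exact mem_irreducibleComponent
    · change (pullback.fst H.hom g).base (nt.left.base ptL) ∈
        irreducibleComponent (η[H].left.base pt)
      rw [hpn]; exact hw
  -- translation by `gt`
  let τ : Red.bc g H ⟶ Red.bc g H := tr (a.bc g) gt
  have hτe : τ.left.base e' = e' := by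
    change (tr (a.bc g) gt).left.base (η[Red.bc g H].left.base ptL) = _
    rw [← Scheme.Hom.comp_apply, ← Over.comp_left, comp_tr]
    unfold smul
    have h0 : η[Red.bc g H] = toUnit (𝟙_ (Over (Spec (CommRingCat.of L)))) ≫ η[Red.bc g H] := by
      rw [toUnit_unique (toUnit (𝟙_ (Over (Spec (CommRingCat.of L))))) (𝟙 _), Category.id_comp]
    rw [h0, smul_unit_of_fix (a.bc g) (fix_bc g a hfix), ← h0]
  have hτn : τ.left.base (nt.left.base ptL) = vt.left.base ptL := by
    change (tr (a.bc g) gt).left.base (nt.left.base ptL) = _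
    rw [← Scheme.Hom.comp_apply, ← Over.comp_left, comp_tr]
    unfold smul
    rw [toUnit_unique (toUnit (𝟙_ (Over (Spec (CommRingCat.of L))))) (𝟙 _), Category.id_comp, hv]
  have hirr2 : IsIrreducible (τ.left.base '' irreducibleComponent e') :=
    isIrreducible_irreducibleComponent.image _ τ.left.continuous.continuousOn
  have hvE : vt.left.base ptL ∈ irreducibleComponent e' :=
    (uic_grp e').subset_irreducibleComponent hirr2
      ⟨e', mem_irreducibleComponent, hτe⟩ ⟨_, hnE, hτn⟩
  rw [← hpv]
  exact image_unitComponent_bc_subset pt L ptL ⟨_, hvE, rfl⟩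

end Groth.Agent.Lib.Helper24.NeutComp
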