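import Mathlib
import Groth.Agent.Lib.Helper24.NeutComp.FixComp
import Groth.Agent.Lib.Helper24.NFT.Neutral
import Groth.Agent.Lib.Helper14.MTCentral

/-!
# Helper24 — the neutral component of a group scheme locally of finite type over a local
artinian ring (SGA3 VI_A 2.3, 2.4)
-/

set_option autoImplicit false
set_option linter.style.haveILetI false
universe u

open CategoryTheory MonoidalCategory CartesianMonoidalCategory MonObj GrpObj AlgebraicGeometry Limits

namespace Groth.Agent.Lib.Helper24.NeutComp

open Groth.Agent.Lib.Helper24.NFT Groth.Agent.Lib.Helper4.ActShear Groth.Agent.Lib.Helper4.ActShear2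
open Groth.Agent.Lib.Helper24.HomogSep

section field

variable {k : Type u} [Field k] (G : Over (Spec (CommRingCat.of k))) [GrpObj G]

/-- every connected component of a group scheme over a field is quasi-compact -/
theorem isCompact_connectedComponent_field (g : G.left) : IsCompact (connectedComponent g) := by
  have hne : Nonempty ↥(𝟙_ (Over (Spec (CommRingCat.of k)))).left :=
    inferInstanceAs (Nonempty (PrimeSpectrum k))
  obtain ⟨pt⟩ := hne
  set E := irreducibleComponent (η[G].left.base pt) with hE
  obtain ⟨W, hW, heW, -⟩ :=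
    exists_isAffineOpen_mem_and_subset (x := η[G].left.base pt) (U := ⊤) trivial
  obtain ⟨U, hU, hgU, -⟩ := exists_isAffineOpen_mem_and_subset (x := g) (U := ⊤) trivial
  let B : Set (G ⊗ G).left := ((fst G G).left.base ⁻¹' (W : Set G.left) ∩
      (snd G G).left.base ⁻¹' (U : Set G.left)) ∩ (fst G G).left.base ⁻¹' E
  have hB : IsCompact B := (isCompact_box W U hW hU).inter_right
    (isClosed_irreducibleComponent.preimage (fst G G).left.continuous)
  have hK : IsCompact (μ[G].left.base '' B) := hB.image μ[G].left.continuous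
  refine hK.of_isClosed_subset isClosed_connectedComponent ?_
  intro x hx
  have hxc : irreducibleComponent x = connectedComponent g := by
    rw [← connectedComponent_eq_irreducibleComponent (selfAct G) (surjective_selfAct G) x]
    exact connectedComponent_eq hx |>.symm
  have hmeet : ((U : Set G.left) ∩ irreducibleComponent x).Nonempty :=
    ⟨g, hgU, by rw [hxc]; exact mem_connectedComponent⟩
  obtain ⟨w, ⟨⟨hw1, hw1'⟩, hw2⟩, hw3⟩ :=
    mem_smulSet_of_component_meets' (selfAct G) (surjective_selfAct G) pt U x hmeet W heW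
  exact ⟨w, ⟨⟨hw1', hw2⟩, hw1⟩, hw3⟩

end field

section art

variable {A : Type u} [CommRing A] [IsArtinianRing A] [IsLocalRing A]

instance subsingleton_spec_art : Subsingleton ↥(Spec (CommRingCat.of A)) := by
  change Subsingleton (PrimeSpectrum A)
  constructor
  intro p q
  apply PrimeSpectrum.ext
  have hp : p.asIdeal.IsMaximal := inferInstance
  have hq : q.asIdeal.IsMaximal := inferInstance
  rw [IsLocalRing.eq_maximalIdeal hp, IsLocalRing.eq_maximalIdeal hq]

variable (A) in
/-- the point of `Spec A` -/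
noncomputable abbrev s₀ : ↥(Spec (CommRingCat.of A)) := IsLocalRing.closedPoint A

instance isClosedImmersion_gs : IsClosedImmersion (gs (s₀ A)) := by
  rw [← isClosed_singleton_iff_isClosedImmersion]
  have : ({s₀ A} : Set ↥(Spec (CommRingCat.of A))) = Set.univ := by
    ext y; simp [Subsingleton.elim y (s₀ A)]
  rw [this]; exact isClosed_univ

instance surjective_gs : Surjective (gs (s₀ A)) := by
  have hne : Nonempty ↥(Spec (CommRingCat.of (resκ (s₀ A)))) :=
    inferInstanceAs (Nonempty (PrimeSpectrum (resκ (s₀ A))))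
  obtain ⟨z⟩ := hne
  exact ⟨fun y => ⟨z, Subsingleton.elim _ _⟩⟩

variable (G : Over (Spec (CommRingCat.of A))) [GrpObj G]

/-- the inclusion of the special fibre -/
noncomputable abbrev pκ : (fib G (s₀ A)).left ⟶ G.left := pullback.fst G.hom (gs (s₀ A))

omit [GrpObj G] in
theorem isHomeomorph_pκ : IsHomeomorph (pκ G).base := by
  rw [isHomeomorph_iff_isEmbedding_surjective]
  exact ⟨(pκ G).isClosedEmbedding.isEmbedding, (pκ G).surjective⟩

omit [GrpObj G] in
theorem image_connectedComponent_pκ (z : (fib G (s₀ A)).left) :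
    (pκ G).base '' connectedComponent z = connectedComponent ((pκ G).base z) := by
  rw [image_connectedComponent_of_isEmbedding (isHomeomorph_pκ G).isEmbedding,
    (isHomeomorph_pκ G).surjective.range_eq, connectedComponentIn_univ]

/-- **S5345** -/
theorem isCompact_connectedComponent_art (g : G.left) : IsCompact (connectedComponent g) := by
  obtain ⟨z, rfl⟩ := (isHomeomorph_pκ G).surjective g
  rw [← image_connectedComponent_pκ]
  exact (isCompact_connectedComponent_field (fib G (s₀ A)) z).image (pκ G).continuous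

variable (pt : ↥(𝟙_ (Over (Spec (CommRingCat.of A)))).left)
  (ptκ : ↥(𝟙_ (Over (Spec (CommRingCat.of (resκ (s₀ A)))))).left)

theorem unit_pκ : (pκ G).base (η[fib G (s₀ A)].left.base ptκ) = η[G].left.base pt :=
  fst_unit_fib G (s₀ A) ptκ pt (Subsingleton.elim _ _)

theorem unitComponent_eq : connectedComponent (η[G].left.base pt) =
    (pκ G).base '' irreducibleComponent (η[fib G (s₀ A)].left.base ptκ) := by
  rw [← connectedComponent_unit (G := fib G (s₀ A)) ptκ, image_connectedComponent_pκ,
    unit_pκ G pt ptκ]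

theorem isOpen_unitComponent_art [LocallyOfFiniteType G.hom] :
    IsOpen (connectedComponent (η[G].left.base pt)) := by
  have hne : Nonempty ↥(𝟙_ (Over (Spec (CommRingCat.of (resκ (s₀ A)))))).left :=
    inferInstanceAs (Nonempty (PrimeSpectrum (resκ (s₀ A))))
  obtain ⟨ptκ⟩ := hne
  rw [unitComponent_eq G pt ptκ]
  haveI : LocallyOfFiniteType (fib G (s₀ A)).hom :=
    inferInstanceAs (LocallyOfFiniteType (pullback.snd G.hom (gs (s₀ A))))
  exact (isHomeomorph_pκ G).isOpenMap _ (isOpen_unitComponent ptκ)

theorem surjective_bcθ (X : Over (Spec (CommRingCat.of A))) :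
    Function.Surjective (bcθ (gs (s₀ A)) G X).base := by
  unfold bcθ
  haveI : Surjective (pullback.fst (G ⊗ X).hom (gs (s₀ A))) := inferInstance
  haveI : IsIso (Functor.LaxMonoidal.μ (Over.pullback (gs (s₀ A))) G X) := inferInstance
  haveI : IsIso (Functor.LaxMonoidal.μ (Over.pullback (gs (s₀ A))) G X).left :=
    (Over.forget _).map_isIso _
  haveI : Surjective (Functor.LaxMonoidal.μ (Over.pullback (gs (s₀ A))) G X).left := inferInstance
  exact (inferInstance : Surjective ((Functor.LaxMonoidal.μ (Over.pullback (gs (s₀ A))) G X).left ≫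
    pullback.fst (G ⊗ X).hom (gs (s₀ A)))).surj

/-- an action of `G` on itself fixing the unit section preserves the neutral component -/
theorem act_mem_art (a : AlgGrp.Action G G)
    (hfix : lift (𝟙 G) (toUnit G ≫ η[G]) ≫ a.act = toUnit G ≫ η[G]) (w : (G ⊗ G).left)
    (hw : (snd G G).left.base w ∈ connectedComponent (η[G].left.base pt)) :
    a.act.left.base w ∈ connectedComponent (η[G].left.base pt) := by
  have hne : Nonempty ↥(𝟙_ (Over (Spec (CommRingCat.of (resκ (s₀ A)))))).left :=
    inferInstanceAs (Nonempty (PrimeSpectrum (resκ (s₀ A))))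
  obtain ⟨ptκ⟩ := hne
  rw [unitComponent_eq G pt ptκ] at hw ⊢
  obtain ⟨w', rfl⟩ := surjective_bcθ G G w
  obtain ⟨n', hn', hn⟩ := hw
  have hsnd : (snd (fib G (s₀ A)) (fib G (s₀ A))).left.base w' = n' := by
    apply (isHomeomorph_pκ G).injective
    rw [hn, ← Scheme.Hom.comp_apply, ← Scheme.Hom.comp_apply, bcθ_snd]
  have h1 := act_mem_unitComponent (a.bc (gs (s₀ A))) (fix_bc (gs (s₀ A)) a hfix) ptκ w'
    (by rw [hsnd]; exact hn')
  refine ⟨_, h1, ?_⟩
  rw [← Scheme.Hom.comp_apply, ← Scheme.Hom.comp_apply, bcθ_act]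

/-- the neutral component is stable under multiplication -/
theorem mul_mem_art (w : (G ⊗ G).left)
    (hw1 : (fst G G).left.base w ∈ connectedComponent (η[G].left.base pt))
    (hw2 : (snd G G).left.base w ∈ connectedComponent (η[G].left.base pt)) :
    μ[G].left.base w ∈ connectedComponent (η[G].left.base pt) := by
  have hne : Nonempty ↥(𝟙_ (Over (Spec (CommRingCat.of (resκ (s₀ A)))))).left :=
    inferInstanceAs (Nonempty (PrimeSpectrum (resκ (s₀ A))))
  obtain ⟨ptκ⟩ := hne
  rw [unitComponent_eq G pt ptκ] at hw1 hw2 ⊢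
  obtain ⟨w', rfl⟩ := surjective_bcθ G G w
  obtain ⟨g', hg', hg⟩ := hw1
  obtain ⟨n', hn', hn⟩ := hw2
  have hfst : (fst (fib G (s₀ A)) (fib G (s₀ A))).left.base w' = g' := by
    apply (isHomeomorph_pκ G).injective
    rw [hg, ← Scheme.Hom.comp_apply, ← Scheme.Hom.comp_apply, bcθ_fst]
  have hsnd : (snd (fib G (s₀ A)) (fib G (s₀ A))).left.base w' = n' := by
    apply (isHomeomorph_pκ G).injective
    rw [hn, ← Scheme.Hom.comp_apply, ← Scheme.Hom.comp_apply, bcθ_snd]
  have h1 := mul_mem_unitComponent (G := fib G (s₀ A)) ptκ w' (by rw [hfst]; exact hg')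
    (by rw [hsnd]; exact hn')
  refine ⟨_, h1, ?_⟩
  have h2 := bcθ_act (gs (s₀ A)) (selfAct G)
  change (pκ G).base (((selfAct G).bc (gs (s₀ A))).act.left.base w') = _
  rw [← Scheme.Hom.comp_apply, ← Scheme.Hom.comp_apply, ← h2]
  rfl

omit [IsArtinianRing A] [IsLocalRing A] in
/-- the neutral component is stable under inversion -/
theorem inv_mem_art (x : G.left) (hx : x ∈ connectedComponent (η[G].left.base pt)) :
    ι[G].left.base x ∈ connectedComponent (η[G].left.base pt) := by
  have h1 := ι[G].left.continuous.image_connectedComponent_subset (η[G].left.base pt)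
  have h2 : ι[G].left.base (η[G].left.base pt) = η[G].left.base pt := by
    rw [← Scheme.Hom.comp_apply, ← Over.comp_left, unit_comp_inv]
  rw [h2] at h1
  exact h1 ⟨x, hx, rfl⟩

/-- **S5344** -/
theorem main5344 [LocallyOfFiniteType G.hom] :
    IsOpen (connectedComponent (η[G].left.base pt)) ∧
    (∀ (T : Over (Spec (CommRingCat.of A))) (g h : T ⟶ G),
      Set.range g.left.base ⊆ connectedComponent (η[G].left.base pt) →
      Set.range h.left.base ⊆ connectedComponent (η[G].left.base pt) →
      Set.range (g * h⁻¹).left.base ⊆ connectedComponent (η[G].left.base pt)) ∧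
    ∀ (T : Over (Spec (CommRingCat.of A))) (g n : T ⟶ G),
      Set.range n.left.base ⊆ connectedComponent (η[G].left.base pt) →
      Set.range (g * n * g⁻¹).left.base ⊆ connectedComponent (η[G].left.base pt) := by
  refine ⟨isOpen_unitComponent_art G pt, ?_, ?_⟩
  · rintro T g h hg hh _ ⟨t, rfl⟩
    have e1 : g * h⁻¹ = lift g (h ≫ ι[G]) ≫ μ[G] := by
      rw [Hom.mul_def, Hom.inv_def]
    rw [e1, Over.comp_left, Scheme.Hom.comp_apply]
    apply mul_mem_art G pt
    · rw [← Scheme.Hom.comp_apply, ← Over.comp_left, lift_fst]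
      exact hg ⟨t, rfl⟩
    · rw [← Scheme.Hom.comp_apply, ← Over.comp_left, lift_snd, Over.comp_left,
        Scheme.Hom.comp_apply]
      exact inv_mem_art G pt _ (hh ⟨t, rfl⟩)
  · rintro T g n hn _ ⟨t, rfl⟩
    have e1 : g * n * g⁻¹ = lift g n ≫ (Groth.Agent.Lib.Helper14.MTCentral.conjAction (𝟙 G)).act := by
      rw [Groth.Agent.Lib.Helper14.MTCentral.conjAction_act,
        Groth.Agent.Lib.Helper14.MTCentral.lift_conjAct, Category.comp_id]
    rw [e1, Over.comp_left, Scheme.Hom.comp_apply]
    apply act_mem_art G pt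
    · rw [Groth.Agent.Lib.Helper14.MTCentral.conjAction_act,
        Groth.Agent.Lib.Helper14.MTCentral.lift_conjAct, Category.comp_id,
        ← Hom.one_def, _root_.mul_one, mul_inv_cancel]
    · rw [← Scheme.Hom.comp_apply, ← Over.comp_left, lift_snd]
      exact hn ⟨t, rfl⟩

end art

end Groth.Agent.Lib.Helper24.NeutComp
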