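import Mathlib
import Groth.Agent.Lib.Helper24.NFT.DenseMul
import Groth.Agent.Lib.Helper24.NFT.Conn
import Groth.Agent.Lib.Helper24.NFT.UnitComp

/-!
# Helper24 — `G⁰ = U · U⁻¹` for a nonempty open `U ⊆ G⁰`
-/

set_option autoImplicit false
universe u

open CategoryTheory MonoidalCategory CartesianMonoidalCategory MonObj GrpObj AlgebraicGeometry Limits

namespace Groth.Agent.Lib.Helper24.NeutComp

open Groth.Agent.Lib.Helper24.NFT Groth.Agent.Lib.Helper4.ActShear Groth.Agent.Lib.Helper4.ActShear2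

variable {k : Type u} [Field k] (G : Over (Spec (CommRingCat.of k))) [GrpObj G]

/-- `(𝟙 ⊗ ι) ≫ (𝟙 ⊗ ι) = 𝟙` -/
theorem id_tensor_inv_sq : (𝟙 G ⊗ₘ ι[G]) ≫ (𝟙 G ⊗ₘ ι[G]) = 𝟙 (G ⊗ G) := by
  rw [tensorHom_comp_tensorHom, Category.comp_id, GrpObj.inv_comp_inv, tensorHom_id,
    id_whiskerRight]

theorem main [LocallyOfFiniteType G.hom] (pt : ↥(𝟙_ (Over (Spec (CommRingCat.of k)))).left)
    (U : G.left.Opens) (hne : (U : Set ↥G.left).Nonempty)
    (hU : (U : Set ↥G.left) ⊆ connectedComponent (η[G].left.base pt)) :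
    connectedComponent (η[G].left.base pt) ⊆ Set.range
      ((((Over.homMk U.ι rfl : Over.mk (U.ι ≫ G.hom) ⟶ G) ⊗ₘ
          ((Over.homMk U.ι rfl : Over.mk (U.ι ≫ G.hom) ⟶ G) ≫ ι[G])) ≫ μ[G]).left.base) := by
  set e := η[G].left.base pt with he
  set E := irreducibleComponent e with hE
  have hcE : connectedComponent e = E := connectedComponent_unit (G := G) pt
  rw [hcE] at hU ⊢
  set j : Over.mk (U.ι ≫ G.hom) ⟶ G := Over.homMk U.ι rfl with hj
  have hii : ι[G].left ≫ ι[G].left = 𝟙 _ := by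
    rw [← Over.comp_left, GrpObj.inv_comp_inv]; rfl
  -- the dense open `U'`
  let V : G.left.Opens := ι[G].left ⁻¹ᵁ U
  let Ec : G.left.Opens := ⟨Eᶜ, isClosed_irreducibleComponent.isOpen_compl⟩
  let U' : G.left.Opens := V ⊔ Ec
  have hVE : (V : Set G.left) ⊆ E := by
    intro y hy
    have h1 : ι[G].left.base y ∈ E := hU hy
    have h2 := inv_mem_unitComponent (G := G) pt _ h1
    rwa [← Scheme.Hom.comp_apply, hii] at h2
  have hVne : ((V : Set G.left) ∩ E).Nonempty := by
    obtain ⟨u, hu⟩ := hne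
    have h1 : ι[G].left.base u ∈ (V : Set G.left) := by
      change ι[G].left.base (ι[G].left.base u) ∈ U
      rw [← Scheme.Hom.comp_apply, hii]
      exact hu
    exact ⟨_, h1, hVE h1⟩
  have hdense : Dense (U' : Set G.left) := by
    intro y
    by_cases hy : y ∈ E
    · have hirr : IsPreirreducible E := isIrreducible_irreducibleComponent.isPreirreducible
      have h1 : E ⊆ closure (E ∩ (V : Set G.left)) :=
        subset_closure_inter_of_isPreirreducible_of_isOpen hirr V.isOpen
          (by rw [Set.inter_comm]; exact hVne)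
      exact closure_mono (Set.inter_subset_right.trans (by
        intro z hz; exact Or.inl hz)) (h1 hy)
    · exact subset_closure (Or.inr hy)
  intro x hx
  obtain ⟨w, ⟨hw1, hw2⟩, hwx⟩ := mem_smulSet_of_dense G U U' hne hdense x
  have hwx' : μ[G].left.base w = x := hwx
  -- `snd w ∈ V`
  have hw2' : (snd G G).left.base w ∈ (V : Set G.left) := by
    rcases hw2 with h | h
    · exact h
    · exfalso
      have h3 := snd_mem_component_act (selfAct G) (surjective_selfAct G) pt w (hU hw1)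
      have h4 : (selfAct G).act.left.base w = x := hwx
      rw [h4] at h3
      have h5 : irreducibleComponent x = E :=
        ((uic_grp x).eq_irreducibleComponent (irreducibleComponent_mem_irreducibleComponents e)
          hx).symm ▸ rfl
      rw [h5] at h3
      exact h h3
  -- the point of `G ⊗ G`
  set w₂ := (𝟙 G ⊗ₘ ι[G]).left.base w with hw₂
  have hfst : (fst G G).left.base w₂ = (fst G G).left.base w := by
    rw [hw₂, ← Scheme.Hom.comp_apply, ← Over.comp_left, tensorHom_fst, Category.comp_id]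
  have hsnd : (snd G G).left.base w₂ = ι[G].left.base ((snd G G).left.base w) := by
    rw [hw₂, ← Scheme.Hom.comp_apply, ← Over.comp_left, tensorHom_snd, Over.comp_left,
      Scheme.Hom.comp_apply]
  have hrange : w₂ ∈ Set.range (j ⊗ₘ j).left.base := by
    have hr := Scheme.Pullback.range_map (f := (Over.mk (U.ι ≫ G.hom)).hom)
      (g := (Over.mk (U.ι ≫ G.hom)).hom) G.hom G.hom j.left j.left (𝟙 _) (by simp) (by simp)
    have : (j ⊗ₘ j).left = pullback.map _ _ _ _ j.left j.left (𝟙 _) (by simp) (by simp) := rfl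
    rw [this, hr]
    refine ⟨?_, ?_⟩
    · change (fst G G).left.base w₂ ∈ Set.range U.ι.base
      rw [hfst, Scheme.Opens.range_ι]
      exact hw1
    · change (snd G G).left.base w₂ ∈ Set.range U.ι.base
      rw [hsnd, Scheme.Opens.range_ι]
      exact hw2'
  obtain ⟨w', hw'⟩ := hrange
  refine ⟨w', ?_⟩
  have hdecomp : (j ⊗ₘ (j ≫ ι[G])) ≫ μ[G] = (j ⊗ₘ j) ≫ (𝟙 G ⊗ₘ ι[G]) ≫ μ[G] := by
    rw [← Category.assoc, tensorHom_comp_tensorHom, Category.comp_id]
  have key : (𝟙 G ⊗ₘ ι[G]).left ≫ ((𝟙 G ⊗ₘ ι[G]) ≫ μ[G]).left = μ[G].left := by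
    rw [← Over.comp_left, ← Category.assoc, id_tensor_inv_sq, Category.id_comp]
  rw [hdecomp, Over.comp_left, Scheme.Hom.comp_apply, hw', hw₂, ← Scheme.Hom.comp_apply, key]
  exact hwx'

end Groth.Agent.Lib.Helper24.NeutComp
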