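import Mathlib
import Groth.Agent.Lib.Helper24.NFT.Neutral
import Groth.Agent.Lib.Helper24.NFT.Conn
import Groth.Agent.Lib.lead.GrpEquidim
import Groth.Agent.Lib.Helper7.IntMultBridge
import Groth.Agent.Lib.Helper7.SmoothProperFlatFin

/-!
# Helper24 — a closed immersion of group schemes of equal dimension is onto on identity components
-/

set_option autoImplicit false
set_option linter.style.haveILetI false
universe u

open CategoryTheory MonoidalCategory CartesianMonoidalCategory MonObj GrpObj AlgebraicGeometry Limits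

namespace Groth.Agent.Lib.Helper24.NeutComp

open Groth.Agent.Lib.Helper24.NFT

section top

variable {X Y : Type*} [TopologicalSpace X] [TopologicalSpace Y]

/-- an embedding restricted to a subset is a homeomorphism onto the image, so dimensions agree -/
theorem topologicalKrullDim_image_of_isEmbedding (f : X → Y) (hf : Topology.IsEmbedding f)
    (s : Set X) : topologicalKrullDim ↥(f '' s) = topologicalKrullDim ↥s := by
  let φ : ↥s → ↥(f '' s) := fun x => ⟨f x.1, ⟨x.1, x.2, rfl⟩⟩
  have hφ : IsHomeomorph φ := by
    rw [isHomeomorph_iff_isEmbedding_surjective]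
    refine ⟨?_, ?_⟩
    · have h1 : Topology.IsEmbedding (fun x : ↥s => f x.1) :=
        hf.comp Topology.IsEmbedding.subtypeVal
      exact Topology.IsEmbedding.of_comp (by fun_prop) continuous_subtype_val h1
    · rintro ⟨_, x, hx, rfl⟩
      exact ⟨⟨x, hx⟩, rfl⟩
  exact (IsHomeomorph.topologicalKrullDim_eq φ hφ).symm

/-- the dimension of a subset `Z ⊆ E`, seen inside `E` -/
theorem topologicalKrullDim_preimage_val (E Z : Set Y) (hZE : Z ⊆ E) :
    topologicalKrullDim ↥{x : ↥E | x.1 ∈ Z} = topologicalKrullDim ↥Z := by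
  have h := topologicalKrullDim_image_of_isEmbedding (Subtype.val : ↥E → Y)
    Topology.IsEmbedding.subtypeVal {x : ↥E | x.1 ∈ Z}
  have h2 : (Subtype.val : ↥E → Y) '' {x : ↥E | x.1 ∈ Z} = Z := by
    ext y
    constructor
    · rintro ⟨x, hx, rfl⟩; exact hx
    · intro hy; exact ⟨⟨y, hZE hy⟩, hy, rfl⟩
  rw [h2] at h
  exact h.symm

end top

/-- **S18027** -/
theorem main18027 (k : Type u) [Field k]
    (G H : Over (Spec (CommRingCat.of k))) [GrpObj G] [GrpObj H]
    [LocallyOfFiniteType G.hom] [LocallyOfFiniteType H.hom] (u : G ⟶ H) [IsMonHom u]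
    [IsClosedImmersion u.left]
    (hdim : topologicalKrullDim ↥G.left = topologicalKrullDim ↥H.left)
    (t : ↥((𝟙_ (Over (Spec (CommRingCat.of k)))).left)) :
    ⇑u.left.base '' connectedComponent (η[G].left.base t) =
      connectedComponent (η[H].left.base t) := by
  rw [connectedComponent_unit t, connectedComponent_unit t]
  set eG := η[G].left.base t with heG
  set eH := η[H].left.base t with heH
  set EG := irreducibleComponent eG with hEG
  set EH := irreducibleComponent eH with hEH
  have hunit : u.left.base eG = eH := by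
    rw [heG, heH, ← Scheme.Hom.comp_apply, ← Over.comp_left, IsMonHom.one_hom]
  set Z := u.left.base '' EG with hZ
  have hZirr : IsIrreducible Z :=
    isIrreducible_irreducibleComponent.image _ u.left.continuous.continuousOn
  have hZE : Z ⊆ EH :=
    (uic_grp eH).subset_irreducibleComponent hZirr ⟨eG, mem_irreducibleComponent, hunit⟩
  have hZc : IsClosed Z :=
    u.left.isClosedEmbedding.isClosedMap _ isClosed_irreducibleComponent
  -- dimensions
  have hdG : topologicalKrullDim ↥EG = topologicalKrullDim ↥G.left :=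
    (Groth.Agent.Lib.lead.GrpEquidim.S5341 k G).1 EG
      (irreducibleComponent_mem_irreducibleComponents eG)
  have hdH : topologicalKrullDim ↥EH = topologicalKrullDim ↥H.left :=
    (Groth.Agent.Lib.lead.GrpEquidim.S5341 k H).1 EH
      (irreducibleComponent_mem_irreducibleComponents eH)
  have hdZ : topologicalKrullDim ↥Z = topologicalKrullDim ↥EH := by
    rw [hZ, topologicalKrullDim_image_of_isEmbedding _ u.left.isClosedEmbedding.isEmbedding, hdG,
      hdim, hdH]
  -- finiteness of the dimension
  let UH : H.left.Opens := ⟨EH, isOpen_unitComponent t⟩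
  letI : UH.toScheme.Over (Spec (CommRingCat.of k)) := ⟨UH.ι ≫ H.hom⟩
  haveI : LocallyOfFiniteType (UH.toScheme ↘ Spec (CommRingCat.of k)) :=
    inferInstanceAs (LocallyOfFiniteType (UH.ι ≫ H.hom))
  haveI : IrreducibleSpace ↥EH :=
    (isIrreducible_iff_irreducibleSpace (s := EH)).1 isIrreducible_irreducibleComponent
  haveI : IrreducibleSpace UH.toScheme := ‹IrreducibleSpace ↥EH›
  obtain ⟨n, hn⟩ := Groth.Agent.Lib.Helper7.SmoothProperFlatFin.exists_nat_dim k UH.toScheme
  have hn' : topologicalKrullDim ↥EH = n := hn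
  -- conclude
  have hV := Groth.Agent.Lib.Helper7.IMBridge.eq_univ_of_topologicalKrullDim_eq (T := ↥EH) n hn'
    {x : ↥EH | x.1 ∈ Z} (hZc.preimage continuous_subtype_val)
    (by rw [topologicalKrullDim_preimage_val EH Z hZE, hdZ, hn'])
  apply subset_antisymm hZE
  intro y hy
  have : (⟨y, hy⟩ : ↥EH) ∈ {x : ↥EH | x.1 ∈ Z} := by rw [hV]; trivial
  exact this

end Groth.Agent.Lib.Helper24.NeutComp
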